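import Cfsg.Agent.Lib.Helper56.M11Perm.ChkO0
import Cfsg.Agent.Lib.Helper56.M11Perm.ChkO1
import Cfsg.Agent.Lib.Helper56.M11Perm.ChkO2
import Cfsg.Agent.Lib.Helper56.M11Perm.ChkO3
import Cfsg.Agent.Lib.Helper56.M11Perm.ChkS
import Cfsg.Agent.Lib.Helper56.M11Perm.ChkE0

set_option autoImplicit false
set_option linter.unusedVariables false

namespace Cfsg.Agent.Lib.Helper56.M11Perm

open Cfsg.Agent.Lib.Helper56.M11Q (Gen)
open Cfsg.Agent.Lib.Helper28.TC Cfsg.Agent.Lib.Helper56.M11R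

noncomputable section

theorem ordP_all : ∀ i, i < nn → ordP i = true := by
  refine all_of_blocks nn ordP 8 1 (by decide) ?_
  intro k hk
  interval_cases k
  · exact ordP_blk0

end

end Cfsg.Agent.Lib.Helper56.M11Perm
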