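import Cfsg.Agent.Lib.Helper56.M11R.Main
import Cfsg.Agent.Lib.Helper28.TCOrbit

set_option autoImplicit false
set_option linter.unusedVariables false

namespace Cfsg.Agent.Lib.Helper56.M11Perm

open Cfsg.Agent.Lib.Helper56.M11Q (Gen)
open Cfsg.Agent.Lib.Helper28.TC Cfsg.Agent.Lib.Helper56.M11R

noncomputable section

/-- generating words of level 0 -/
def words0 : List (List Gen) := [
  [Gen.i],
  [Gen.j],
  [Gen.k]]

def orbT0_c0 : ℕ := 0x90d180b050924091409230703071205200300030001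
def orbT0 : ℕ := orbT0_c0
def orbE0 (i : ℕ) : ℕ := look orbT0 16 65535 i
/-- orbit certificate of level 0 -/
def OC0 : OrbCert where
  inO := fun i => Nat.beq (Nat.land (orbE0 i) 1) 1
  dep := fun i => Nat.land (Nat.shiftRight (orbE0 i) 1) 127
  opar := fun i => Nat.land (Nat.shiftRight (orbE0 i) 8) 15
  ogen := fun i => Nat.shiftRight (orbE0 i) 12
  root := 0
def orbP0 (i : ℕ) : Bool := orbRowOK tf nn words0 OC0 i

/-- generating words of level 1 -/
def words1 : List (List Gen) := [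
  [Gen.j, Gen.k, Gen.i],
  [Gen.i, Gen.j]]

def orbT1_c0 : ℕ := 0x90b0609150b03050707040912070103130500010000
def orbT1 : ℕ := orbT1_c0
def orbE1 (i : ℕ) : ℕ := look orbT1 16 65535 i
/-- orbit certificate of level 1 -/
def OC1 : OrbCert where
  inO := fun i => Nat.beq (Nat.land (orbE1 i) 1) 1
  dep := fun i => Nat.land (Nat.shiftRight (orbE1 i) 1) 127
  opar := fun i => Nat.land (Nat.shiftRight (orbE1 i) 8) 15
  ogen := fun i => Nat.shiftRight (orbE1 i) 12
  root := 1
def orbP1 (i : ℕ) : Bool := orbRowOK tf nn words1 OC1 i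

/-- generating words of level 2 -/
def words2 : List (List Gen) := [
  [Gen.j, Gen.i],
  [Gen.i, Gen.k, Gen.i, Gen.j, Gen.i, Gen.j, Gen.k, Gen.i, Gen.j, Gen.k, Gen.j, Gen.i, Gen.k, Gen.i]]

def orbT2_c0 : ℕ := 0x1305050b0a0714090305080906070203000100000000
def orbT2 : ℕ := orbT2_c0
def orbE2 (i : ℕ) : ℕ := look orbT2 16 65535 i
/-- orbit certificate of level 2 -/
def OC2 : OrbCert where
  inO := fun i => Nat.beq (Nat.land (orbE2 i) 1) 1
  dep := fun i => Nat.land (Nat.shiftRight (orbE2 i) 1) 127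
  opar := fun i => Nat.land (Nat.shiftRight (orbE2 i) 8) 15
  ogen := fun i => Nat.shiftRight (orbE2 i) 12
  root := 2
def orbP2 (i : ℕ) : Bool := orbRowOK tf nn words2 OC2 i

/-- generating words of level 3 -/
def words3 : List (List Gen) := [
  [Gen.i, Gen.j, Gen.i, Gen.k, Gen.i, Gen.j, Gen.i, Gen.j, Gen.k, Gen.i, Gen.j, Gen.k, Gen.j, Gen.i, Gen.k, Gen.i],
  [Gen.i, Gen.j, Gen.i, Gen.k, Gen.i, Gen.j, Gen.k, Gen.j, Gen.i, Gen.k, Gen.j, Gen.i, Gen.j, Gen.i, Gen.k, Gen.j, Gen.i, Gen.j, Gen.i, Gen.k, Gen.i, Gen.j, Gen.i, Gen.j, Gen.k, Gen.i, Gen.j, Gen.k, Gen.i, Gen.j, Gen.k, Gen.i, Gen.j, Gen.k, Gen.j, Gen.i, Gen.k, Gen.i, Gen.j, Gen.i, Gen.j, Gen.i, Gen.j, Gen.i]]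

def orbT3_c0 : ℕ := 0x5070303070513031507090519050001000000000000
def orbT3 : ℕ := orbT3_c0
def orbE3 (i : ℕ) : ℕ := look orbT3 16 65535 i
/-- orbit certificate of level 3 -/
def OC3 : OrbCert where
  inO := fun i => Nat.beq (Nat.land (orbE3 i) 1) 1
  dep := fun i => Nat.land (Nat.shiftRight (orbE3 i) 1) 127
  opar := fun i => Nat.land (Nat.shiftRight (orbE3 i) 8) 15
  ogen := fun i => Nat.shiftRight (orbE3 i) 12
  root := 3
def orbP3 (i : ℕ) : Bool := orbRowOK tf nn words3 OC3 i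

/-- generating words of the point stabilizer part -/
def wordsK : List (List Gen) := [
  [Gen.j, Gen.k, Gen.i],
  [Gen.i, Gen.j]]

def subT_c0 : ℕ := 0x2429060845429030441c19040844819010244c11000040000
def subT : ℕ := subT_c0
def subE (i : ℕ) : ℕ := look subT 18 262143 i
/-- the suborbit label of a point -/
def lab (i : ℕ) : ℕ := Nat.land (subE i) 7
/-- orbit certificate of the suborbit with label `j` and root `r` -/
def OCs (j r : ℕ) : OrbCert where
  inO := fun i => Nat.beq (lab i) j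
  dep := fun i => Nat.land (Nat.shiftRight (subE i) 3) 127
  opar := fun i => Nat.land (Nat.shiftRight (subE i) 10) 15
  ogen := fun i => Nat.shiftRight (subE i) 14
  root := r
/-- the number of suborbits -/
def nlab : ℕ := 1
/-- label `0` only at the base point, labels at most `nlab` -/
def labP (i : ℕ) : Bool := band (Nat.ble (lab i) nlab) (Bool.rec (nlt 0 (lab i)) (Nat.beq (lab i) 0) (Nat.beq i 0))
def subP1 (i : ℕ) : Bool := orbRowOK tf nn wordsK (OCs 1 1) i

/-- words `u`, `v` of order 11 with `x = u * v` for each generator `x` -/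
def uvWords : List (Gen × List Gen × List Gen) := [
  (Gen.i, [Gen.k, Gen.i, Gen.k, Gen.j, Gen.i, Gen.k, Gen.j], [Gen.j, Gen.k, Gen.i, Gen.j, Gen.k, Gen.i, Gen.k, Gen.i]),
  (Gen.j, [Gen.i, Gen.j, Gen.k, Gen.j, Gen.k, Gen.j, Gen.i, Gen.k, Gen.i], [Gen.i, Gen.k, Gen.i, Gen.j, Gen.k, Gen.j, Gen.k, Gen.j, Gen.i, Gen.j]),
  (Gen.k, [Gen.i, Gen.k, Gen.j, Gen.k, Gen.j, Gen.i, Gen.k, Gen.j, Gen.i], [Gen.i, Gen.j, Gen.k, Gen.i, Gen.j, Gen.k, Gen.j, Gen.k, Gen.i, Gen.k])]

/-- the remaining generators as words in the others -/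
def exWords : List (Gen × List Gen) := [
  ]

/-- row check: `u ^ 11` and `v ^ 11` fix row `i`, and `u * v` acts as `x` -/
def ordP (i : ℕ) : Bool :=
  band (allList (fun t => band (Nat.beq (act tf (List.replicate 11 t.2.1).flatten i) i)
    (band (Nat.beq (act tf (List.replicate 11 t.2.2).flatten i) i)
      (Nat.beq (act tf (t.2.1 ++ t.2.2) i) (tf t.1 i)))) uvWords)
    (allList (fun t => Nat.beq (act tf t.2 i) (tf t.1 i)) exWords)


end

end Cfsg.Agent.Lib.Helper56.M11Perm
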